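import Groth.Agent.H52.FBase.GeomPt
import Mathlib.RingTheory.Valuation.LocalSubring
import Mathlib.RingTheory.TensorProduct.Free
import Mathlib.RingTheory.LocalRing.ResidueField.Basic

/-!
# Units on a product of two integral varieties over an algebraically closed field

`ev_mul_ev`: for domains `A`, `B` over an algebraically closed field and a unit `f` of `A ⊗ B`, the
values at points satisfy `f(x,y) f(x',y') = f(x',y) f(x,y')`.  The proof uses only valuation rings:
`f(·,y)/f(·,y')` lies in every valuation ring of `Frac A`, hence is constant.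
-/

set_option autoImplicit false

universe u

open TensorProduct Algebra.TensorProduct

namespace Groth.Agent.Lib.UnitsProd

variable {K : Type u} [Field K]

/-- Evaluation of the second factor. -/
noncomputable def evR {B R : Type u} [CommRing B] [CommRing R] [Algebra K B] [Algebra K R]
    (y : B →ₐ[K] K) : R ⊗[K] B →ₐ[K] R :=
  productMap (AlgHom.id K R) ((Algebra.ofId K R).comp y)

theorem evR_map {B R S : Type u} [CommRing B] [CommRing R] [CommRing S] [Algebra K B] [Algebra K R]
    [Algebra K S] (g : R →ₐ[K] S) (y : B →ₐ[K] K) (z : R ⊗[K] B) :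
    evR y (Algebra.TensorProduct.map g (AlgHom.id K B) z) = g (evR y z) := by
  induction z with
  | zero => simp
  | tmul r b => simp [evR]
  | add a b ha hb => simp [ha, hb]

section valuation

variable {L B : Type u} [Field L] [Algebra K L] [CommRing B] [IsDomain B] [Algebra K B]

theorem ratio_mem [IsAlgClosed K] (V : ValuationSubring L) (hV : ∀ c : K, algebraMap K L c ∈ V)
    (F : L ⊗[K] B) (hF : IsUnit F) (y y' : B →ₐ[K] K) : evR y F / evR y' F ∈ V := by
  classical
  let alg : Algebra K V := ((algebraMap K L).codRestrict V hV).toAlgebra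
  let ι : V →ₐ[K] L := { V.subtype with commutes' := fun _ => rfl }
  have hι : Function.Injective ι := Subtype.val_injective
  let ψ : V ⊗[K] B →ₐ[K] L ⊗[K] B := Algebra.TensorProduct.map ι (AlgHom.id K B)
  have hψ : Function.Injective ψ := Module.Flat.rTensor_preserves_injective_linearMap (M := B)
    ι.toLinearMap hι
  let res : V →ₐ[K] IsLocalRing.ResidueField V :=
    IsScalarTower.toAlgHom K V (IsLocalRing.ResidueField V)
  let ρ : V ⊗[K] B →ₐ[K] IsLocalRing.ResidueField V ⊗[K] B :=
    Algebra.TensorProduct.map res (AlgHom.id K B)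
  have : IsDomain (IsLocalRing.ResidueField V ⊗[K] B) :=
    Groth.Agent.H52.FBase.GeomPt.isDomain_tensor_of_isAlgClosed
  let b := Module.Free.chooseBasis K B
  have hres : ∀ {a : V}, res a ≠ 0 → IsUnit a := fun {a} ha => by
    by_contra h
    exact ha ((IsLocalRing.residue_eq_zero_iff a).2 h)
  -- every nonzero element is a scalar times an element with nonzero reduction
  have content : ∀ z : L ⊗[K] B, z ≠ 0 → ∃ c : L, ∃ G : V ⊗[K] B,
      c ≠ 0 ∧ ρ G ≠ 0 ∧ z = (c ⊗ₜ[K] (1 : B)) * ψ G := by
    intro z hz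
    let bL := Algebra.TensorProduct.basis L b
    let l := bL.repr z
    have hl : l.support.Nonempty := by
      rw [Finsupp.support_nonempty_iff]
      exact fun h => hz (bL.repr.map_eq_zero_iff.1 h)
    obtain ⟨i₀, hi₀, hmax⟩ := Finset.exists_max_image l.support (fun i => V.valuation (l i)) hl
    have hc : l i₀ ≠ 0 := Finsupp.mem_support_iff.1 hi₀
    have hr : ∀ i, l i / l i₀ ∈ V := by
      intro i
      rw [← V.valuation_le_one_iff, map_div₀]
      have h0 : V.valuation (l i₀) ≠ 0 := by simpa using hc
      rw [div_le_one₀ (zero_lt_iff.2 h0)]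
      by_cases hi : i ∈ l.support
      · exact hmax i hi
      · simp [Finsupp.notMem_support_iff.1 hi]
    let r : _ → V := fun i => ⟨l i / l i₀, hr i⟩
    refine ⟨l i₀, ∑ i ∈ l.support, r i ⊗ₜ[K] b i, hc, fun h0 => ?_, ?_⟩
    · have := congrArg (fun w => (Algebra.TensorProduct.basis (IsLocalRing.ResidueField V) b).repr w i₀) h0
      simp only [ρ, map_sum, Algebra.TensorProduct.map_tmul, AlgHom.id_apply, map_zero,
        Algebra.TensorProduct.basis_repr_tmul, Finsupp.finsetSum_apply, Finsupp.smul_apply,
        Finsupp.mapRange_apply, Module.Basis.repr_self, Finsupp.coe_zero, Pi.zero_apply] at this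
      rw [Finset.sum_eq_single i₀] at this
      · rw [Finsupp.single_eq_same, map_one, smul_eq_mul, mul_one] at this
        have h1 : r i₀ = 1 := Subtype.ext (div_self hc)
        rw [h1, map_one] at this
        exact one_ne_zero this
      · intro i _ hi
        simp [hi]
      · exact fun h => absurd hi₀ h
    · conv_lhs => rw [← bL.linearCombination_repr z, Finsupp.linearCombination_apply]
      rw [Finsupp.sum, map_sum, Finset.mul_sum]
      refine Finset.sum_congr rfl fun i _ => ?_
      have : ι (r i) = l i / l i₀ := rfl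
      simp [ψ, bL, Algebra.TensorProduct.basis_apply, this, mul_div_cancel₀ _ hc,
        TensorProduct.smul_tmul', l]
  obtain ⟨F', hF'⟩ := hF.exists_right_inv
  obtain ⟨c, G, hc, hG, hFG⟩ := content F hF.ne_zero
  obtain ⟨c', G', hc', hG', hFG'⟩ := content F' fun h => by simp [h] at hF'
  have h1 : ((c * c') ⊗ₜ[K] (1 : B)) * ψ (G * G') = 1 := by
    rw [← hF', hFG, hFG', map_mul]
    have : ((c * c') ⊗ₜ[K] (1 : B)) = (c ⊗ₜ[K] (1 : B)) * (c' ⊗ₜ[K] (1 : B)) := by simp
    rw [this]; ring
  have hGu : IsUnit G := by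
    rcases V.mem_or_inv_mem (c * c') with hd | he
    · have h2 : ψ (((⟨c * c', hd⟩ : V) ⊗ₜ[K] (1 : B)) * (G * G')) = ψ 1 := by
        rw [map_mul ψ, map_one, ← h1]; rfl
      have h3 : IsUnit (((⟨c * c', hd⟩ : V) ⊗ₜ[K] (1 : B)) * (G * G')) := (hψ h2).symm ▸ isUnit_one
      exact isUnit_of_mul_isUnit_left (isUnit_of_mul_isUnit_right h3)
    · have h2 : ψ (G * G') = ψ ((⟨(c * c')⁻¹, he⟩ : V) ⊗ₜ[K] (1 : B)) := by
        have hinv : (((c * c')⁻¹) ⊗ₜ[K] (1 : B)) * ((c * c') ⊗ₜ[K] (1 : B)) = (1 : L ⊗[K] B) := by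
          rw [Algebra.TensorProduct.tmul_mul_tmul, inv_mul_cancel₀ (mul_ne_zero hc hc'), one_mul]
          rfl
        calc ψ (G * G') = (((c * c')⁻¹) ⊗ₜ[K] (1 : B)) * (((c * c') ⊗ₜ[K] (1 : B)) * ψ (G * G')) := by
              rw [← mul_assoc, hinv, one_mul]
          _ = _ := by rw [h1, mul_one]; rfl
      have h3 := hψ h2
      have h4 : res ⟨(c * c')⁻¹, he⟩ ≠ 0 := fun h => by
        have := congrArg ρ h3
        rw [map_mul] at this
        simp only [ρ, Algebra.TensorProduct.map_tmul, h, TensorProduct.zero_tmul] at this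
        exact mul_ne_zero hG hG' this
      exact isUnit_of_mul_isUnit_left (y := G') (h3 ▸ (hres h4).map
        (Algebra.TensorProduct.includeLeft : V →ₐ[K] V ⊗[K] B))
  have hy : ∀ w : B →ₐ[K] K, evR w F = c * ι (evR w G) := fun w => by
    rw [hFG, map_mul, evR_map]
    simp [evR]
  obtain ⟨v, hv⟩ := hGu.map (evR y' : V ⊗[K] B →ₐ[K] V)
  have hv0 : ι (evR y' G) ≠ 0 := fun h => by
    have := (hGu.map (evR y' : V ⊗[K] B →ₐ[K] V)).map ι
    rw [h] at this
    exact not_isUnit_zero this
  have h5 : evR y F / evR y' F = ι (evR y G * ((v⁻¹ : Vˣ) : V)) := by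
    rw [hy, hy, mul_div_mul_left _ _ hc, div_eq_iff hv0, ← map_mul, mul_assoc, ← hv]
    simp
  rw [h5]
  exact (evR y G * ((v⁻¹ : Vˣ) : V)).2

end valuation

/-- `f(x,y) f(x',y') = f(x',y) f(x,y')` for a unit `f`. -/
theorem ev_mul_ev [IsAlgClosed K] {A B : Type u} [CommRing A] [IsDomain A] [Algebra K A]
    [CommRing B] [IsDomain B] [Algebra K B] (f : A ⊗[K] B) (hf : IsUnit f)
    (x x' : A →ₐ[K] K) (y y' : B →ₐ[K] K) :
    productMap x y f * productMap x' y' f = productMap x' y f * productMap x y' f := by
  let L := FractionRing A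
  let j : A →ₐ[K] L := IsScalarTower.toAlgHom K A L
  have hj : Function.Injective j := IsFractionRing.injective A L
  let F := Algebra.TensorProduct.map j (AlgHom.id K B) f
  have hF : IsUnit F := hf.map _
  have hpm : ∀ (w : A →ₐ[K] K) (z : B →ₐ[K] K), productMap w z f = w (evR z f) := by
    intro w z
    have : productMap w z = w.comp (evR z) := by
      apply Algebra.TensorProduct.ext' fun a b => ?_
      simp [evR]
    rw [this]; rfl
  let t : L := evR y F / evR y' F
  let R0 : Subring L := (algebraMap K L).range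
  have hint : t ∈ (integralClosure (Subring.closure (R0 : Set L)) L).toSubring := by
    rw [← iInf_valuationSubring_superset, Subring.mem_iInf]
    intro V
    exact ratio_mem V.1 (fun c => V.2 ⟨c, rfl⟩) F hF y y'
  rw [Subring.closure_eq] at hint
  have hK : IsIntegral K t := by
    let : Algebra K R0 := (algebraMap K L).rangeRestrict.toAlgebra
    have : IsScalarTower K R0 L := IsScalarTower.of_algebraMap_eq' rfl
    have : Algebra.IsIntegral K R0 := ⟨fun r => by
      obtain ⟨c, hc⟩ := (algebraMap K L).rangeRestrict_surjective r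
      exact hc ▸ isIntegral_algebraMap⟩
    exact isIntegral_trans (A := R0) t hint
  obtain ⟨c, hc⟩ : ∃ c : K, algebraMap K L c = t :=
    (minpoly.mem_range_of_degree_eq_one K t
      (IsAlgClosed.degree_eq_one_of_irreducible K (minpoly.irreducible hK)))
  have hne : evR y' F ≠ 0 := by
    have := hF.map (evR y' : L ⊗[K] B →ₐ[K] L)
    exact this.ne_zero
  have key : evR y f = algebraMap K A c * evR y' f := by
    apply hj
    rw [map_mul, ← evR_map, ← evR_map, AlgHom.commutes, hc]
    exact (div_mul_cancel₀ _ hne).symm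
  simp only [hpm, key, map_mul, AlgHom.commutes]
  ring

end Groth.Agent.Lib.UnitsProd
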