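import Mathlib.AlgebraicGeometry.AlgClosed.Basic
import Mathlib.AlgebraicGeometry.Morphisms.FiniteType
import Mathlib.AlgebraicGeometry.Noetherian
import Mathlib.RingTheory.Ideal.MinimalPrime.Noetherian
import Mathlib.Topology.LocallyConstant.Basic

/-!
# Functions on rational points constant on integral pieces

A function on the rational points of a connected scheme locally of finite type over an algebraically
closed field which is constant on the points of every integral affine piece is constant.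
-/

set_option autoImplicit false

universe u v

open CategoryTheory AlgebraicGeometry

namespace Groth.Agent.Lib.UnitsProd

variable {K : Type u} [Field K] [IsAlgClosed K] {Z : Scheme.{u}} (q : Z ⟶ Spec (CommRingCat.of K))
  [LocallyOfFiniteType q]

/-- Constancy on the points of every integral affine piece. -/
def ConstOnPieces {α : Sort v} (φ : {p : Spec (CommRingCat.of K) ⟶ Z // p ≫ q = 𝟙 _} → α) : Prop :=
  ∀ (A : Type u) [CommRing A] [IsDomain A] [Algebra K A] (a : Spec (CommRingCat.of A) ⟶ Z),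
    a ≫ q = Spec.map (CommRingCat.ofHom (algebraMap K A)) →
    ∀ (x x' : A →ₐ[K] K) (h : (Spec.map (CommRingCat.ofHom x.toRingHom) ≫ a) ≫ q = 𝟙 _)
      (h' : (Spec.map (CommRingCat.ofHom x'.toRingHom) ≫ a) ≫ q = 𝟙 _),
      φ ⟨_, h⟩ = φ ⟨_, h'⟩

variable {α : Type v} {φ : {p : Spec (CommRingCat.of K) ⟶ Z // p ≫ q = 𝟙 _} → α}

theorem eq_of_specializes_of_mem (hφ : ConstOnPieces q φ) (U : Z.Opens) (hU : IsAffineOpen U) {z : Z}
    (s s' : {p : Spec (CommRingCat.of K) ⟶ Z // p ≫ q = 𝟙 _})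
    (hs : z ⤳ s.1 (IsLocalRing.closedPoint K)) (hsU : s.1 (IsLocalRing.closedPoint K) ∈ U)
    (hs' : z ⤳ s'.1 (IsLocalRing.closedPoint K)) (hsU' : s'.1 (IsLocalRing.closedPoint K) ∈ U) :
    φ s = φ s' := by
  let φ0 := (Spec.map_surjective (hU.fromSpec ≫ q)).choose
  have hφ0 : Spec.map φ0 = hU.fromSpec ≫ q := (Spec.map_surjective (hU.fromSpec ≫ q)).choose_spec
  algebraize [φ0.hom]
  have hzU : z ∈ U := hs.mem_open U.2 hsU
  let P := hU.primeIdealOf ⟨z, hzU⟩
  have key : ∀ t : {p : Spec (CommRingCat.of K) ⟶ Z // p ≫ q = 𝟙 _},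
      z ⤳ t.1 (IsLocalRing.closedPoint K) → t.1 (IsLocalRing.closedPoint K) ∈ U →
      ∃ x : (Γ(Z, U) ⧸ P.asIdeal) →ₐ[K] K, Spec.map (CommRingCat.ofHom x.toRingHom) ≫
        Spec.map (CommRingCat.ofHom (Ideal.Quotient.mk P.asIdeal)) ≫ hU.fromSpec = t.1 := by
    intro t htz htU
    have hr : Set.range t.1 ⊆ Set.range hU.fromSpec := by
      rw [hU.range_fromSpec]
      rintro _ ⟨w, rfl⟩
      rwa [Subsingleton.elim w (IsLocalRing.closedPoint K)]
    let l := IsOpenImmersion.lift hU.fromSpec t.1 hr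
    have hl : l ≫ hU.fromSpec = t.1 := IsOpenImmersion.lift_fac _ _ _
    obtain ⟨χ, hχ⟩ := Spec.map_surjective l
    have hcomm : φ0 ≫ χ = 𝟙 _ := by
      apply Spec.map_injective
      rw [Spec.map_comp, hφ0, hχ, ← Category.assoc, hl, t.2, Spec.map_id]
    let χ' : Γ(Z, U) →ₐ[K] K := { χ.hom with commutes' := fun c => congr($(hcomm).hom c) }
    have hle : P.asIdeal ≤ RingHom.ker χ.hom := by
      have e1 : hU.fromSpec (l (IsLocalRing.closedPoint K)) = t.1 (IsLocalRing.closedPoint K) := by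
        rw [← hl]; rfl
      have e2 : hU.fromSpec P ⤳ hU.fromSpec (l (IsLocalRing.closedPoint K)) := by
        rw [e1]; exact (hU.fromSpec_primeIdealOf ⟨z, hzU⟩).symm ▸ htz
      have h1 : P ⤳ l (IsLocalRing.closedPoint K) :=
        hU.fromSpec.isOpenEmbedding.isInducing.specializes_iff.1 e2
      have h2 := (PrimeSpectrum.le_iff_specializes P (l (IsLocalRing.closedPoint K))).2 h1
      intro a ha
      have h3 := h2 ha
      rw [← hχ] at h3
      have h4 : χ.hom a ∈ IsLocalRing.maximalIdeal K := h3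
      rw [IsLocalRing.maximalIdeal_eq_bot] at h4
      exact h4
    refine ⟨Ideal.Quotient.liftₐ P.asIdeal χ' fun a ha => hle ha, ?_⟩
    rw [← Category.assoc, ← Spec.map_comp, ← CommRingCat.ofHom_comp]
    rw [← hl, ← hχ]
    rfl
  obtain ⟨x, hx⟩ := key s hs hsU
  obtain ⟨x', hx'⟩ := key s' hs' hsU'
  have ha : (Spec.map (CommRingCat.ofHom (Ideal.Quotient.mk P.asIdeal)) ≫ hU.fromSpec) ≫ q =
      Spec.map (CommRingCat.ofHom (algebraMap K (Γ(Z, U) ⧸ P.asIdeal))) := by
    rw [Category.assoc, ← hφ0, ← Spec.map_comp]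
    rfl
  have := hφ (Γ(Z, U) ⧸ P.asIdeal) _ ha x x' (by rw [hx]; exact s.2) (by rw [hx']; exact s'.2)
  convert this using 2 <;> ext1
  · exact hx.symm
  · exact hx'.symm

theorem eq_of_specializes (hφ : ConstOnPieces q φ) {z : Z}
    (s s' : {p : Spec (CommRingCat.of K) ⟶ Z // p ≫ q = 𝟙 _})
    (hs : z ⤳ s.1 (IsLocalRing.closedPoint K)) (hs' : z ⤳ s'.1 (IsLocalRing.closedPoint K)) :
    φ s = φ s' := by
  have : JacobsonSpace Z := LocallyOfFiniteType.jacobsonSpace q
  obtain ⟨_, ⟨U, hU, rfl⟩, hxU, -⟩ :=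
    Z.isBasis_affineOpens.exists_subset_of_mem_open (Set.mem_univ (s.1 (IsLocalRing.closedPoint K))) isOpen_univ
  obtain ⟨_, ⟨U', hU', rfl⟩, hxU', -⟩ :=
    Z.isBasis_affineOpens.exists_subset_of_mem_open (Set.mem_univ (s'.1 (IsLocalRing.closedPoint K))) isOpen_univ
  obtain ⟨w, ⟨hw1, hw2⟩, hw3⟩ := nonempty_inter_closedPoints
    (Z := closure {z} ∩ ((U : Set Z) ∩ U'))
    ⟨z, subset_closure rfl, hs.mem_open U.2 hxU, hs'.mem_open U'.2 hxU'⟩
    (isClosed_closure.isLocallyClosed.inter (U.2.inter U'.2).isLocallyClosed)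
  let t := (pointEquivClosedPoint q).symm ⟨w, hw3⟩
  have ht : t.1 (IsLocalRing.closedPoint K) = w :=
    congrArg Subtype.val ((pointEquivClosedPoint q).apply_symm_apply ⟨w, hw3⟩)
  have hzw : z ⤳ t.1 (IsLocalRing.closedPoint K) := by
    rw [ht]; exact specializes_iff_mem_closure.2 hw1
  exact (eq_of_specializes_of_mem q hφ U hU s t hs hxU hzw (ht ▸ hw2.1)).trans
    (eq_of_specializes_of_mem q hφ U' hU' t s' hzw (ht ▸ hw2.2) hs' hxU')

/-- The function is constant if the scheme is connected. -/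
theorem eq_of_connected [PreconnectedSpace Z] (hφ : ConstOnPieces q φ)
    (s s' : {p : Spec (CommRingCat.of K) ⟶ Z // p ≫ q = 𝟙 _}) : φ s = φ s' := by
  classical
  have : JacobsonSpace Z := LocallyOfFiniteType.jacobsonSpace q
  have : IsLocallyNoetherian Z := LocallyOfFiniteType.isLocallyNoetherian q
  have hex : ∀ z : Z, ∃ t : {p : Spec (CommRingCat.of K) ⟶ Z // p ≫ q = 𝟙 _},
      z ⤳ t.1 (IsLocalRing.closedPoint K) := by
    intro z
    obtain ⟨w, hw, hw'⟩ := nonempty_inter_closedPoints (Z := closure {z})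
      ⟨z, subset_closure rfl⟩ isClosed_closure.isLocallyClosed
    refine ⟨(pointEquivClosedPoint q).symm ⟨w, hw'⟩, ?_⟩
    rw [show ((pointEquivClosedPoint q).symm ⟨w, hw'⟩).1 (IsLocalRing.closedPoint K) = w from
      congrArg Subtype.val ((pointEquivClosedPoint q).apply_symm_apply ⟨w, hw'⟩)]
    exact specializes_iff_mem_closure.2 hw
  choose g hg using hex
  have hspec : ∀ z z' : Z, z ⤳ z' → φ (g z) = φ (g z') := fun z z' h =>
    eq_of_specializes q hφ _ _ (hg z) (h.trans (hg z'))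
  have hlc : IsLocallyConstant fun z => φ (g z) := by
    rw [IsLocallyConstant.iff_exists_open]
    intro z
    obtain ⟨_, ⟨U, hU, rfl⟩, hzU, -⟩ :=
      Z.isBasis_affineOpens.exists_subset_of_mem_open (Set.mem_univ z) isOpen_univ
    have : IsNoetherianRing Γ(Z, U) := IsLocallyNoetherian.component_noetherian ⟨U, hU⟩
    let P := hU.primeIdealOf ⟨z, hzU⟩
    let C : Set (PrimeSpectrum Γ(Z, U)) :=
      ⋃ p ∈ {p ∈ minimalPrimes Γ(Z, U) | ¬ p ≤ P.asIdeal}, PrimeSpectrum.zeroLocus (p : Set Γ(Z, U))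
    have hC : IsClosed C :=
      ((minimalPrimes.finite_of_isNoetherianRing _).subset fun p hp => hp.1).isClosed_biUnion
        fun p _ => PrimeSpectrum.isClosed_zeroLocus _
    have hP : P ∉ C := by
      simp only [C, Set.mem_iUnion, not_exists]
      intro p hp hP
      exact hp.2 hP
    refine ⟨hU.fromSpec '' Cᶜ, hU.fromSpec.isOpenEmbedding.isOpenMap _ hC.isOpen_compl,
      ⟨P, hP, hU.fromSpec_primeIdealOf _⟩, ?_⟩
    rintro _ ⟨W, hW, rfl⟩
    obtain ⟨p, hp, hpW⟩ := Ideal.exists_minimalPrimes_le (I := (⊥ : Ideal Γ(Z, U))) (J := W.asIdeal) bot_le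
    have : p.IsPrime := hp.1.1
    have hpP : p ≤ P.asIdeal := by
      by_contra hh
      exact hW (Set.mem_iUnion₂.2 ⟨p, ⟨hp, hh⟩, hpW⟩)
    let η : PrimeSpectrum Γ(Z, U) := ⟨p, this⟩
    have h1 : hU.fromSpec η ⤳ hU.fromSpec W :=
      ((PrimeSpectrum.le_iff_specializes η W).1 hpW).map hU.fromSpec.continuous
    have h2 : hU.fromSpec η ⤳ z := by
      have := ((PrimeSpectrum.le_iff_specializes η P).1 hpP).map hU.fromSpec.continuous
      rwa [hU.fromSpec_primeIdealOf] at this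
    exact (hspec _ _ h1).symm.trans (hspec _ _ h2)
  have h3 : ∀ t : {p : Spec (CommRingCat.of K) ⟶ Z // p ≫ q = 𝟙 _},
      φ (g (t.1 (IsLocalRing.closedPoint K))) = φ t := fun t =>
    eq_of_specializes q hφ _ _ (hg _) specializes_rfl
  rw [← h3 s, ← h3 s']
  exact hlc.apply_eq_of_preconnectedSpace _ _

end Groth.Agent.Lib.UnitsProd
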